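import Cfsg.Agent.H376.Six.Elim

/-!
# Consequences of `E5 q S` (helper157, BLOCK 6)
-/

set_option autoImplicit false

namespace Cfsg.Agent.H157.Six.E5Tool

open Cfsg.Agent.H376.Six

variable {q : ℕ}

theorem five_dvd {m : ℕ} (hm : 1 ≤ m) (hq : q = 5 ^ m) : 5 ∣ q ∧ 2 ≤ q ∧ q % 4 = 1 := by
  refine ⟨by rw [hq]; exact dvd_pow_self 5 (by omega), ?_, ?_⟩
  · rw [hq]
    calc 2 ≤ 5 ^ 1 := by norm_num
      _ ≤ 5 ^ m := Nat.pow_le_pow_right (by norm_num) hm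
  · rw [hq, Nat.pow_mod]
    norm_num

/-- the possible orders -/
def Ub5 (q N : ℕ) : Prop := N ∣ (q ^ 3 - 1) / 2 ∨ N ∣ (q ^ 3 + 1) / 2 ∨ N ∣ (q ^ 4 - 1) / 4 ∨
    N ∣ 5 * (q ^ 2 + 1) ∨ N ∣ 5 * (q ^ 2 - 1) ∨ N ∣ 25

theorem div_dvd {a b c N : ℕ} (h : N ∣ a / b) (hb : b ∣ a) (hc : a ∣ c) : N ∣ c :=
  (h.trans (Nat.div_dvd_of_dvd hb)).trans hc

theorem four_dvd (hq : q % 4 = 1) : 4 ∣ q ^ 4 - 1 := by
  have h1 := (one_dvd_pow q).1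
  exact (show 4 ∣ q - 1 by omega).trans h1

theorem not_dvd_rest (h5 : 5 ∣ q) (hq4 : q % 4 = 1) {r N : ℕ} (hr : r.Prime) (hrq : ¬ r ∣ q)
    (hr4 : ¬ r ∣ q ^ 4 - 1) (hrN : r ∣ N)
    (h : N ∣ (q ^ 4 - 1) / 4 ∨ N ∣ 5 * (q ^ 2 + 1) ∨ N ∣ 5 * (q ^ 2 - 1) ∨ N ∣ 25) : False := by
  have hr5 : ¬ r ∣ 5 := by
    intro h
    exact hrq (h.trans h5)
  rcases h with h | h | h | h
  · exact hr4 (div_dvd (hrN.trans h) (four_dvd hq4) dvd_rfl)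
  · rcases hr.dvd_mul.1 (hrN.trans h) with h | h
    · exact hr5 h
    · exact hr4 (h.trans (sq_pm_dvd q).1)
  · rcases hr.dvd_mul.1 (hrN.trans h) with h | h
    · exact hr5 h
    · exact hr4 (h.trans (sq_pm_dvd q).2)
  · exact hr5 (hr.dvd_of_dvd_pow (n := 2) (by simpa using hrN.trans h))

/-- orders divisible by a prime divisor of `ap q` -/
theorem Ub5.of_ap {N : ℕ} (h : Ub5 q N) (h5 : 5 ∣ q) (hq : 2 ≤ q) (hq4 : q % 4 = 1) {r : ℕ} (hr : r.Prime)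
    (hra : r ∣ ap q) (hrN : r ∣ N) : N ∣ (q ^ 3 - 1) / 2 := by
  rcases h with h | h | h
  · exact h
  · exfalso
    have h1 := Nat.dvd_gcd (hra.trans (ap_dvd_half hq (by omega))) (hrN.trans h)
    rw [coprime_half (by omega)] at h1
    exact hr.one_lt.ne' (Nat.dvd_one.1 h1)
  · exact (not_dvd_rest h5 hq4 hr (ap_ne hq hr hra).2.2 (ap_prime hq hr hra) hrN h).elim

/-- orders divisible by a prime divisor of `am q` -/
theorem Ub5.of_am {N : ℕ} (h : Ub5 q N) (h5 : 5 ∣ q) (hq : 2 ≤ q) (hq4 : q % 4 = 1) {s : ℕ} (hs : s.Prime)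
    (hsa : s ∣ am q) (hsN : s ∣ N) : N ∣ (q ^ 3 + 1) / 2 := by
  rcases h with h | h | h
  · exfalso
    have h1 := Nat.dvd_gcd (hsN.trans h) (hsa.trans (am_dvd_half hq (by omega)))
    rw [coprime_half (by omega)] at h1
    exact hs.one_lt.ne' (Nat.dvd_one.1 h1)
  · exact h
  · exact (not_dvd_rest h5 hq4 hs (am_ne hq hs hsa).2.2 (am_prime hq hs hsa) hsN h).elim

/-- `r₃` and `r₆` are not adjacent -/
theorem Ub5.not_both {N : ℕ} (h : Ub5 q N) (h5 : 5 ∣ q) (hq : 2 ≤ q) (hq4 : q % 4 = 1) {r s : ℕ} (hr : r.Prime)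
    (hs : s.Prime) (hra : r ∣ ap q) (hsa : s ∣ am q) (hrN : r ∣ N) (hsN : s ∣ N) : False := by
  have h1 := h.of_ap h5 hq hq4 hr hra hrN
  have h2 := h.of_am h5 hq hq4 hs hsa hsN
  have h3 := Nat.dvd_gcd h1 h2
  rw [coprime_half (by omega)] at h3
  rw [Nat.dvd_one.1 h3] at hrN
  exact hr.one_lt.ne' (Nat.dvd_one.1 hrN)

/-- `r₆` and `2` are not adjacent -/
theorem Ub5.odd_am {N : ℕ} (h : Ub5 q N) (h5 : 5 ∣ q) (hq : 2 ≤ q) (hq4 : q % 4 = 1) {s : ℕ}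
    (hs : s.Prime) (hsa : s ∣ am q) (hsN : s ∣ N) : ¬ 2 ∣ N := by
  have h1 := h.of_am h5 hq hq4 hs hsa hsN
  intro h2
  have h3 := h2.trans h1
  have h4 : q ^ 3 % 4 = 1 := by rw [Nat.pow_mod, hq4]
  omega

/-- an order divisible by `25` -/
theorem Ub5.of_25 {N : ℕ} (h : Ub5 q N) (h5 : 5 ∣ q) (hq : 2 ≤ q) (hq4 : q % 4 = 1) (hN : 25 ∣ N) : N ∣ 25 := by
  have h0 : ∀ k, 1 ≤ k → 5 ∣ q ^ k := fun k hk => h5.trans (dvd_pow_self q (by omega))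
  have h1 : ∀ k, 1 ≤ k → 1 ≤ q ^ k := fun k _ => Nat.one_le_pow _ _ (by omega)
  have h5N : 5 ∣ N := (by norm_num : 5 ∣ 25).trans hN
  have key : ∀ k, 1 ≤ k → ¬ 5 ∣ q ^ k - 1 ∧ ¬ 5 ∣ q ^ k + 1 := by
    intro k hk
    have h2 := h0 k hk
    have h3 := h1 k hk
    omega
  rcases h with h | h | h | h | h | h
  · exfalso
    refine (key 3 (by norm_num)).1 (div_dvd (h5N.trans h) ?_ dvd_rfl)
    rw [cube_sub]
    exact (show 2 ∣ q - 1 by omega).mul_left _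
  · exfalso
    refine (key 3 (by norm_num)).2 (div_dvd (h5N.trans h) ?_ dvd_rfl)
    have h4 : q ^ 3 % 4 = 1 := by rw [Nat.pow_mod, hq4]
    omega
  · exact ((key 4 (by norm_num)).1 (div_dvd (h5N.trans h) (four_dvd hq4) dvd_rfl)).elim
  · exfalso
    have h2 := hN.trans h
    rw [show 25 = 5 * 5 from rfl] at h2
    exact (key 2 (by norm_num)).2 (Nat.dvd_of_mul_dvd_mul_left (by norm_num) h2)
  · exfalso
    have h2 := hN.trans h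
    rw [show 25 = 5 * 5 from rfl] at h2
    exact (key 2 (by norm_num)).1 (Nat.dvd_of_mul_dvd_mul_left (by norm_num) h2)
  · exact h

end Cfsg.Agent.H157.Six.E5Tool
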