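import Cfsg.Agent.H377.Elt
import Cfsg.Agent.H23.FreeAct
import Cfsg.Agent.S0752

/-!
# Isometries of order `p²` (helper157, BLOCK 6)

`g` an isometry of a nondegenerate quadratic space of dimension `2n`, type `ε`, over `F`, `|F| = q` prime to the odd
prime `p`, `g ^ (p ^ 2) = 1`, `g ^ p ≠ 1`. Then `p ^ 2` divides `q ^ m - δ` for some `1 ≤ m ≤ n`, `δ = ± 1`, and `δ = ε`
if `m = n` (`reg`).
-/

set_option autoImplicit false
set_option linter.style.haveILetI false
set_option linter.unusedSectionVars false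

namespace Cfsg.Agent.H157.Six.Reg

open QuadraticMap
open Cfsg.Agent.LieClassical.OrthCore Cfsg.Agent.LieClassical.OrthForms Cfsg.Agent.H377

/-- the points moved by `σ ^ p` fall into orbits of length `p ^ 2` -/
theorem card_modEq {X : Type*} [Finite X] (σ : Equiv.Perm X) {p : ℕ} (hp : p.Prime) (hσ : σ ^ (p ^ 2) = 1)
    (P : X → Prop) (hP : ∀ x, P (σ x) ↔ P x) :
    ∃ k, Nat.card {x // P x} = Nat.card {x // P x ∧ (σ ^ p) x = x} + p ^ 2 * k := by
  classical
  have hzp : ∀ (d : Subgroup.zpowers σ) (x : X), P ((d : Equiv.Perm X) x) ↔ P x := by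
    have h1 : ∀ (n : ℕ) (x : X), P ((σ ^ n) x) ↔ P x := by
      intro n
      induction n with
      | zero => intro x; rfl
      | succ n ih => intro x; rw [pow_succ, Equiv.Perm.mul_apply, ih, hP]
    rintro ⟨d, hd⟩ x
    obtain ⟨n, rfl⟩ := Subgroup.mem_zpowers_iff.1 hd
    show P ((σ ^ n) x) ↔ P x
    obtain ⟨n, rfl | rfl⟩ := n.eq_nat_or_neg
    · rw [zpow_natCast]
      exact h1 n x
    · rw [zpow_neg, zpow_natCast]
      rw [← h1 n ((σ ^ n)⁻¹ x), ← Equiv.Perm.mul_apply, mul_inv_cancel, Equiv.Perm.one_apply]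
  have hcm : ∀ (d : Subgroup.zpowers σ) (x : X), (σ ^ p) ((d : Equiv.Perm X) x) = (d : Equiv.Perm X) x ↔ (σ ^ p) x = x := by
    rintro ⟨d, hd⟩ x
    obtain ⟨n, rfl⟩ := Subgroup.mem_zpowers_iff.1 hd
    show (σ ^ p) ((σ ^ n) x) = (σ ^ n) x ↔ (σ ^ p) x = x
    have h2 : (σ ^ p) * (σ ^ n) = (σ ^ n) * (σ ^ p) := by
      rw [← zpow_natCast, ← zpow_add, ← zpow_add, add_comm]
    rw [← Equiv.Perm.mul_apply, h2, Equiv.Perm.mul_apply, (σ ^ n).injective.eq_iff]
  let Y := {x // P x ∧ ¬ (σ ^ p) x = x}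
  have hY : p ^ 2 ∣ Nat.card Y := by
    by_cases hne : Nonempty Y
    · obtain ⟨y⟩ := hne
      have hord : orderOf σ = p ^ 2 := by
        have : Fact p.Prime := ⟨hp⟩
        refine orderOf_eq_prime_pow (p := p) (n := 1) (x := σ) ?_ hσ
        rw [pow_one]
        intro h
        exact y.2.2 (DFunLike.congr_fun h (y : X))
      let act : MulAction (Subgroup.zpowers σ) Y :=
        { smul := fun d x => ⟨(d : Equiv.Perm X) x, (hzp d x).2 x.2.1, fun h => x.2.2 ((hcm d x).1 h)⟩
          one_smul := fun x => rfl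
          mul_smul := fun d e x => rfl }
      have hsm : ∀ (d : Subgroup.zpowers σ) (x : Y), ((d • x : Y) : X) = (d : Equiv.Perm X) x := fun d x => rfl
      have h3 : Nat.card (Subgroup.zpowers σ) ∣ Nat.card Y := by
        refine Cfsg.Agent.H23.FreeAct.card_dvd_of_free (D := Subgroup.zpowers σ) (α := Y) fun d x hd => ?_
        by_contra hd1
        have hdx : (d : Equiv.Perm X) x = x := by
          rw [← hsm, hd]
        -- `σ ^ p` is a power of `d`
        have hpd : σ ^ p ∈ Subgroup.zpowers (d : Equiv.Perm X) := by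
          have h4 : Nat.card (Subgroup.zpowers (d : Equiv.Perm X)) ∣ p ^ 2 := by
            rw [Nat.card_zpowers]
            rw [← hord]
            have := orderOf_dvd_natCard d
            rw [Nat.card_zpowers] at this
            rwa [Subgroup.orderOf_coe]
          have hcyc : IsCyclic (Subgroup.zpowers σ) := inferInstance
          -- two subgroups of a cyclic group
          have h5 : p ∣ orderOf (d : Equiv.Perm X) := by
            rw [Nat.card_zpowers] at h4
            obtain ⟨i, hi, hi'⟩ := (Nat.dvd_prime_pow hp).1 h4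
            rw [hi']
            refine dvd_pow_self p ?_
            rintro rfl
            rw [pow_zero, orderOf_eq_one_iff] at hi'
            exact hd1 (Subtype.ext hi')
          obtain ⟨n, hn⟩ := Subgroup.mem_zpowers_iff.1 d.2
          -- `d = σ ^ n`, `n` not divisible by `p ^ 2`
          have hcop : ∃ a b : ℤ, a * n + b * (p ^ 2 : ℕ) = p := by
            have hg : (Int.gcd n ((p ^ 2 : ℕ) : ℤ)) ∣ p := by
              have h6 : Int.gcd n ((p ^ 2 : ℕ) : ℤ) ∣ p ^ 2 := by
                have := Int.gcd_dvd_right n ((p ^ 2 : ℕ) : ℤ)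
                exact_mod_cast this
              obtain ⟨i, hi, hi'⟩ := (Nat.dvd_prime_pow hp).1 h6
              rw [hi']
              have h7 : i ≠ 2 := by
                rintro rfl
                have h8 : ((p ^ 2 : ℕ) : ℤ) ∣ n := by
                  rw [← hi']
                  exact Int.gcd_dvd_left n _
                apply hd1
                apply Subtype.ext
                rw [← hn]
                rw [← hord] at h8
                exact orderOf_dvd_iff_zpow_eq_one.1 h8
              calc p ^ i ∣ p ^ 1 := pow_dvd_pow _ (by omega)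
                _ = p := pow_one p
            obtain ⟨c, hc⟩ := hg
            have h9 := Int.gcd_eq_gcd_ab n ((p ^ 2 : ℕ) : ℤ)
            refine ⟨Int.gcdA n ((p ^ 2 : ℕ) : ℤ) * c, Int.gcdB n ((p ^ 2 : ℕ) : ℤ) * c, ?_⟩
            have h10 : (p : ℤ) = (Int.gcd n ((p ^ 2 : ℕ) : ℤ) : ℤ) * c := by exact_mod_cast hc
            rw [h10, h9]
            ring
          obtain ⟨a, b, hab⟩ := hcop
          refine Subgroup.mem_zpowers_iff.2 ⟨a, ?_⟩
          rw [← hn, ← zpow_mul, ← zpow_natCast σ p, ← hab, zpow_add, mul_comm n a]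
          rw [mul_comm b, zpow_mul σ ((p ^ 2 : ℕ) : ℤ) b, zpow_natCast, hσ, one_zpow, mul_one]
        obtain ⟨n, hn⟩ := Subgroup.mem_zpowers_iff.1 hpd
        have h11 : ((d : Equiv.Perm X) ^ n) (x : X) = x := Equiv.Perm.zpow_apply_eq_self_of_apply_eq_self hdx n
        rw [hn] at h11
        exact x.2.2 h11
      rwa [Nat.card_zpowers, hord] at h3
    · rw [not_nonempty_iff] at hne
      rw [Nat.card_of_isEmpty]
      exact dvd_zero _
  obtain ⟨k, hk⟩ := hY
  refine ⟨k, ?_⟩
  rw [← hk]
  rw [← Nat.card_congr (Equiv.subtypeSubtypeEquivSubtypeInter P fun x => (σ ^ p) x = x),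
    ← Nat.card_congr (Equiv.subtypeSubtypeEquivSubtypeInter P fun x => ¬ (σ ^ p) x = x), ← Nat.card_sum]
  exact Nat.card_congr (Equiv.sumCompl _).symm

section lin

variable {F : Type*} [Field F] {V : Type*} [AddCommGroup V] [Module F V]

/-- `1 + h + ... + h ^ (p - 1)` -/
def nm (H : Module.End F V) (p : ℕ) : Module.End F V := ∑ i ∈ Finset.range p, H ^ i

variable {H : Module.End F V} {p : ℕ}

theorem nm_mul (hp : H ^ p = 1) : nm H p * (H - 1) = 0 := by
  rw [nm, geom_sum_mul, hp, sub_self]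

theorem mul_nm (hp : H ^ p = 1) : (H - 1) * nm H p = 0 := by
  rw [nm, mul_geom_sum, hp, sub_self]

theorem pow_fix {v : V} (hv : H v = v) (i : ℕ) : (H ^ i) v = v := by
  induction i with
  | zero => rfl
  | succ i ih => rw [pow_succ, Module.End.mul_apply, hv, ih]

theorem nm_fix {v : V} (hv : H v = v) : nm H p v = (p : F) • v := by
  rw [nm, LinearMap.sum_apply, Finset.sum_congr rfl fun i _ => pow_fix hv i, Finset.sum_const, Finset.card_range,
    Nat.cast_smul_eq_nsmul]

theorem H_nm (hp : H ^ p = 1) (z : V) : H (nm H p z) = nm H p z := by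
  have h1 := LinearMap.congr_fun (mul_nm hp) z
  rw [Module.End.mul_apply, LinearMap.sub_apply, Module.End.one_apply, LinearMap.zero_apply] at h1
  exact sub_eq_zero.1 h1

variable {Q : QuadraticForm F V}

theorem polar_isom (hH : ∀ v, Q (H v) = Q v) (x y : V) : polar Q (H x) (H y) = polar Q x y := by
  rw [polar, polar, ← map_add, hH, hH, hH]

theorem isom_pow' (hg : ∀ v, Q (H v) = Q v) (c : ℕ) (v : V) : Q ((H ^ c) v) = Q v := by
  induction c generalizing v with
  | zero => rfl
  | succ c ih => rw [pow_succ, Module.End.mul_apply, ih, hg]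

theorem polar_pow_fix (hH : ∀ v, Q (H v) = Q v) {x : V} (hx : H x = x) (i : ℕ) (z : V) :
    polar Q x ((H ^ i) z) = polar Q x z := by
  have h1 : polar Q ((H ^ i) x) ((H ^ i) z) = polar Q x z := polar_isom (fun v => isom_pow' hH i v) x z
  rwa [pow_fix hx] at h1

theorem polar_nm (hH : ∀ v, Q (H v) = Q v) {x : V} (hx : H x = x) (z : V) :
    polar Q x (nm H p z) = (p : F) * polar Q x z := by
  have h1 : polar Q x (nm H p z) = polarBilin Q x (nm H p z) := rfl
  rw [h1, nm, LinearMap.sum_apply, map_sum]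
  simp only [polarBilin_apply_apply, polar_pow_fix hH hx, Finset.sum_const, Finset.card_range, nsmul_eq_mul]

/-- the fixed space is nondegenerate -/
theorem nondeg_fix (hQ : Nondeg Q) (hH : ∀ v, Q (H v) = Q v) (hp : H ^ p = 1) (hpF : (p : F) ≠ 0) :
    Nondeg (Q.comp (LinearMap.ker (H - 1)).subtype) := by
  have hmem : ∀ x : V, x ∈ LinearMap.ker (H - 1) ↔ H x = x := fun x => by
    rw [LinearMap.mem_ker, LinearMap.sub_apply, Module.End.one_apply, sub_eq_zero]
  rintro ⟨x, hx⟩ hxy
  have hx' := (hmem x).1 hx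
  apply Subtype.ext
  refine hQ x fun z => ?_
  have h1 := hxy ⟨nm H p z, (hmem _).2 (H_nm hp z)⟩
  have h2 : polar Q x (nm H p z) = 0 := h1
  rw [polar_nm hH hx'] at h2
  exact (mul_eq_zero.1 h2).resolve_left hpF

/-- the commutator space has even dimension -/
theorem even_range [FiniteDimensional F V] (hQ : Nondeg Q) (hH : ∀ v, Q (H v) = Q v) (hp : H ^ p = 1)
    (hpF : (p : F) ≠ 0) (hp2 : Odd p) : Even (Module.finrank F (LinearMap.range (H - 1))) := by
  set R := LinearMap.range (H - 1) with hR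
  have hpos : 1 ≤ p := hp2.pos
  -- the inverse
  let H' : Module.End F V := H ^ (p - 1)
  have hHH' : ∀ v, H (H' v) = v := fun v => by
    rw [← Module.End.mul_apply, ← pow_succ', show p - 1 + 1 = p by omega, hp]
    rfl
  have hH'H : ∀ v, H' (H v) = v := fun v => by
    rw [← Module.End.mul_apply, ← pow_succ, show p - 1 + 1 = p by omega, hp]
    rfl
  have hRH : ∀ x ∈ R, H x ∈ R := by
    rintro _ ⟨w, rfl⟩
    refine ⟨H w, ?_⟩
    rw [LinearMap.sub_apply, LinearMap.sub_apply, map_sub]
    rfl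
  have hRpow : ∀ (i : ℕ) (z : V), z - (H ^ i) z ∈ R := by
    intro i z
    induction i with
    | zero =>
      rw [pow_zero, Module.End.one_apply, sub_self]
      exact zero_mem _
    | succ i ih =>
      have h1 : z - (H ^ (i + 1)) z = (z - (H ^ i) z) + -((H - 1) ((H ^ i) z)) := by
        rw [pow_succ', Module.End.mul_apply, LinearMap.sub_apply, Module.End.one_apply]
        abel
      rw [h1]
      exact add_mem ih (neg_mem ⟨_, rfl⟩)
  have hRH' : ∀ x ∈ R, H' x ∈ R := by
    intro x hx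
    have h1 := hRpow (p - 1) x
    have h2 : H' x = x - (x - (H ^ (p - 1)) x) := by
      rw [sub_sub_cancel]
    rw [h2]
    exact sub_mem hx h1
  let D : Module.End F V := H - H'
  have hD : ∀ x ∈ R, D x ∈ R := fun x hx => sub_mem (hRH x hx) (hRH' x hx)
  -- the alternating form
  let B : LinearMap.BilinForm F R := LinearMap.mk₂ F (fun x y => polar Q (D (x : V)) (y : V))
    (fun x y z => by
      show polar Q (D ((x : V) + (y : V))) (z : V) = _
      rw [map_add, polar_add_left])
    (fun c x y => by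
      show polar Q (D (c • (x : V))) (y : V) = _
      rw [map_smul, polar_smul_left])
    (fun x y z => by
      show polar Q (D (x : V)) ((y : V) + (z : V)) = _
      rw [polar_add_right])
    (fun c x y => by
      show polar Q (D (x : V)) (c • (y : V)) = _
      rw [polar_smul_right])
  have hB : ∀ x y : R, B x y = polar Q (D (x : V)) (y : V) := fun x y => rfl
  have hadj : ∀ x y : V, polar Q (H' x) y = polar Q x (H y) := by
    intro x y
    rw [← polar_isom hH, hHH']
  have hAlt : B.IsAlt := by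
    intro x
    rw [hB]
    show polar Q (H (x : V) - H' (x : V)) (x : V) = 0
    rw [sub_eq_add_neg, polar_add_left, polar_neg_left, hadj, polar_comm Q (x : V)]
    ring
  have hfix : ∀ x ∈ R, H x = x → x = 0 := by
    rintro _ ⟨w, rfl⟩ hx
    have h1 : nm H p ((H - 1) w) = 0 := LinearMap.congr_fun (nm_mul hp) w
    rw [nm_fix hx] at h1
    exact (smul_eq_zero.1 h1).resolve_left hpF
  have hperp : ∀ u ∈ R, ∀ z, H z = z → polar Q u z = 0 := by
    rintro _ ⟨w, rfl⟩ z hz
    rw [LinearMap.sub_apply, Module.End.one_apply, sub_eq_add_neg, polar_add_left, polar_neg_left]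
    have h1 : polar Q (H w) z = polar Q w z := by
      conv_lhs => rw [← hz]
      exact polar_isom hH w z
    rw [h1]
    ring
  obtain ⟨m, k, b, h1, h2, h3, h4⟩ := Cfsg.Agent.S0752.result B hAlt
  have hk : k = 0 := by
    by_contra hk
    have h5 := h4 ⟨0, Nat.pos_of_ne_zero hk⟩
    set x : R := b (Sum.inr ⟨0, Nat.pos_of_ne_zero hk⟩) with hx
    apply b.ne_zero (Sum.inr ⟨0, Nat.pos_of_ne_zero hk⟩)
    rw [← hx]
    have h6 : D (x : V) = 0 := by
      refine hQ _ fun z => ?_
      have h7 : (p : F) * polar Q (D (x : V)) z = 0 := by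
        have h8 : (p : F) * polar Q (D (x : V)) z = polar Q (D (x : V)) ((p : F) • z) := by
          rw [polar_smul_right, smul_eq_mul]
        have h9 : (p : F) • z = nm H p z + ∑ i ∈ Finset.range p, (z - (H ^ i) z) := by
          rw [Finset.sum_sub_distrib, Finset.sum_const, Finset.card_range, nm, LinearMap.sum_apply,
            add_sub_cancel, Nat.cast_smul_eq_nsmul]
        have h10 : (∑ i ∈ Finset.range p, (z - (H ^ i) z)) ∈ R := Submodule.sum_mem _ fun i _ => hRpow i z
        rw [h8, h9, polar_add_right, hperp _ (hD _ x.2) _ (H_nm hp z), zero_add]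
        exact h5 ⟨_, h10⟩
      exact (mul_eq_zero.1 h7).resolve_left hpF
    have h7 : H (x : V) = H' (x : V) := sub_eq_zero.1 h6
    have h8 : (H ^ 2) (x : V) = x := by
      rw [pow_two, Module.End.mul_apply, h7, hHH']
    apply Subtype.ext
    refine hfix _ x.2 ?_
    obtain ⟨i, hi⟩ := hp2
    have h9 : (H ^ (2 * i)) (x : V) = x := by
      rw [pow_mul]
      exact pow_fix h8 i
    have h10 : (H ^ p) (x : V) = x := by rw [hp]; rfl
    rw [hi, pow_succ', Module.End.mul_apply, h9] at h10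
    exact h10
  subst hk
  rw [Module.finrank_eq_card_basis b]
  simp only [Fintype.card_sum, Fintype.card_fin, add_zero]
  exact ⟨m, rfl⟩

end lin

section main

variable {F : Type*} [Field F] [Finite F]

theorem gs_fiber {V : Type*} [Finite V] (ψ : AddChar F ℂ) (Q : V → F) :
    letI := Fintype.ofFinite F
    gs ψ Q = ∑ c : F, (Nat.card {v // Q v = c} : ℂ) * ψ c := by
  classical
  letI := Fintype.ofFinite F
  letI := Fintype.ofFinite V
  show gs ψ Q = ∑ c : F, (Nat.card {v // Q v = c} : ℂ) * ψ c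
  rw [gs_eq, ← Finset.sum_fiberwise (s := Finset.univ) (g := Q)]
  refine Finset.sum_congr rfl fun c _ => ?_
  rw [Finset.sum_congr rfl fun v hv => by rw [(Finset.mem_filter.1 hv).2], Finset.sum_const, nsmul_eq_mul]
  congr 2
  rw [Nat.card_eq_fintype_card, Fintype.card_subtype]

theorem isIntegral_char (ψ : AddChar F ℂ) (c : F) : IsIntegral ℤ (ψ c) := by
  refine IsIntegral.of_pow (n := Nat.card F) Nat.card_pos ?_
  rw [← AddChar.map_nsmul_eq_pow, card_nsmul_eq_zero', AddChar.map_zero_eq_one]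
  exact isIntegral_one

theorem int_dvd_of_isIntegral {a b : ℤ} {x : ℂ} (hx : IsIntegral ℤ x) (h : (a : ℂ) = b * x) : b ∣ a := by
  by_cases hb : b = 0
  · subst hb
    have : (a : ℂ) = 0 := by rw [h]; simp
    have h2 : a = 0 := by exact_mod_cast this
    rw [h2]
  have hb' : (b : ℂ) ≠ 0 := by exact_mod_cast hb
  have h1 : x = algebraMap ℚ ℂ ((a : ℚ) / b) := by
    rw [map_div₀]
    simp only [map_intCast]
    rw [h]
    field_simp
  rw [h1] at hx
  have h2 : IsIntegral ℤ ((a : ℚ) / b) := (isIntegral_algebraMap_iff (algebraMap ℚ ℂ).injective).1 hx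
  obtain ⟨y, hy⟩ := IsIntegrallyClosed.isIntegral_iff.1 h2
  refine ⟨y, ?_⟩
  have hb'' : (b : ℚ) ≠ 0 := by exact_mod_cast hb
  rw [eq_div_iff hb''] at hy
  have h3 : ((y * b : ℤ) : ℚ) = (a : ℚ) := by
    rw [← hy]
    push_cast
    rfl
  have h4 : y * b = a := by exact_mod_cast h3
  rw [← h4, mul_comm]

theorem exists_sign {V : Type*} [AddCommGroup V] [Module F V] [Finite V] {Q : QuadraticForm F V} (hQ : Nondeg Q) {j : ℕ}
    (hj : Module.finrank F V = 2 * j) : ∃ ε : ℤ, (ε = 1 ∨ ε = -1) ∧ HasSign (⇑Q) j ε ∧ (j = 0 → ε = 1) := by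
  have : FiniteDimensional F V := Module.Finite.of_finite
  rcases Nat.eq_zero_or_pos j with rfl | hj0
  · have : Subsingleton V := Module.finrank_zero_iff.1 (by rw [hj])
    exact ⟨1, Or.inl rfl, hasSign_zero _ fun v => by rw [Subsingleton.elim v 0, QuadraticMap.map_zero], fun _ => rfl⟩
  · rcases classify_all hj0 hj Q hQ with ⟨e, he⟩ | ⟨ζ, hζ, e, he⟩
    · exact ⟨1, Or.inl rfl, (hasSign_quadFormPlus (F := F) j).congr e.toEquiv he, fun h => by omega⟩
    · refine ⟨-1, Or.inr rfl, ?_, fun h => by omega⟩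
      have h1 := (hasSign_quadFormMinus (F := F) (j - 1) hζ).congr e.toEquiv he
      rwa [show j - 1 + 1 = j by omega] at h1

variable {V : Type*} [AddCommGroup V] [Module F V] [Finite V] {Q : QuadraticForm F V}

/-- **isometries of order `p ^ 2`** -/
theorem reg {n : ℕ} (hn : Module.finrank F V = 2 * n) (hQ : Nondeg Q) {ε : ℤ} (hε : ε = 1 ∨ ε = -1)
    (hs : HasSign (⇑Q) n ε) {G : Module.End F V} (hG : ∀ v, Q (G v) = Q v) {p : ℕ} (hp : p.Prime) (hp2 : p ≠ 2)
    (hpF : ¬ p ∣ Nat.card F) (h1 : G ^ (p ^ 2) = 1) (h2 : G ^ p ≠ 1) :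
    ∃ m, ∃ δ : ℤ, 1 ≤ m ∧ m ≤ n ∧ (δ = 1 ∨ δ = -1) ∧ (m = n → δ = ε) ∧ (p : ℤ) ^ 2 ∣ (Nat.card F : ℤ) ^ m - δ := by
  classical
  have : FiniteDimensional F V := Module.Finite.of_finite
  letI := Fintype.ofFinite F
  have hpF0 : (p : F) ≠ 0 := by
    intro h0
    have h3 : ringChar F = p := ((Nat.dvd_prime hp).1 ((ringChar.spec F p).1 h0)).resolve_left CharP.ringChar_ne_one
    have h4 : CharP F p := h3 ▸ ringChar.charP F
    obtain ⟨k, -, hk2⟩ := FiniteField.card F p
    apply hpF
    rw [Nat.card_eq_fintype_card, hk2]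
    exact dvd_pow_self p k.ne_zero
  set H : Module.End F V := G ^ p with hH
  have hHp : H ^ p = 1 := by rw [hH, ← pow_mul, ← pow_two, h1]
  have hHQ : ∀ v, Q (H v) = Q v := fun v => isom_pow hG p v
  have hpodd : Odd p := hp.odd_of_ne_two hp2
  set K := LinearMap.ker (H - 1) with hK
  have hnK := nondeg_fix hQ hHQ hHp hpF0
  obtain ⟨m, hm⟩ := even_range hQ hHQ hHp hpF0 hpodd
  have hrn := (H - 1).finrank_range_add_finrank_ker
  rw [hn, hm] at hrn
  have hKj : Module.finrank F K = 2 * (n - m) := by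
    rw [hK]
    omega
  have hm1 : 1 ≤ m := by
    by_contra hcon
    have h3 : Module.finrank F (LinearMap.range (H - 1)) = 0 := by omega
    have h4 := Submodule.finrank_eq_zero.1 h3
    rw [LinearMap.range_eq_bot, sub_eq_zero] at h4
    exact h2 h4
  obtain ⟨ε₀, hε₀, hs₀, hε₀'⟩ := exists_sign hnK hKj
  -- the permutation
  have hp21 : 1 ≤ p ^ 2 := Nat.one_le_pow _ _ hp.pos
  let σ : Equiv.Perm V :=
    { toFun := G
      invFun := ⇑(G ^ (p ^ 2 - 1))
      left_inv := fun v => by
        rw [← Module.End.mul_apply, ← pow_succ, show p ^ 2 - 1 + 1 = p ^ 2 by omega, h1]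
        rfl
      right_inv := fun v => by
        rw [← Module.End.mul_apply, ← pow_succ', show p ^ 2 - 1 + 1 = p ^ 2 by omega, h1]
        rfl }
  have hσ : ∀ (i : ℕ) (v : V), (σ ^ i) v = (G ^ i) v := by
    intro i
    induction i with
    | zero => intro v; rfl
    | succ i ih => intro v; rw [pow_succ, Equiv.Perm.mul_apply, ih, pow_succ, Module.End.mul_apply]; rfl
  have hσ2 : σ ^ (p ^ 2) = 1 := by
    ext v
    rw [hσ, h1]
    rfl
  have hkey : ∀ c : F, ∃ k, Nat.card {v // Q v = c} = Nat.card {v : K // Q.comp K.subtype v = c} + p ^ 2 * k := by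
    intro c
    obtain ⟨k, hk⟩ := card_modEq σ hp hσ2 (fun v => Q v = c) (fun v => by
      show Q (G v) = c ↔ Q v = c
      rw [hG])
    refine ⟨k, ?_⟩
    rw [hk]
    congr 1
    refine Nat.card_congr
      { toFun := fun v => ⟨⟨v, ?_⟩, v.2.1⟩
        invFun := fun v => ⟨(v : K), v.2, ?_⟩
        left_inv := fun v => rfl
        right_inv := fun v => rfl }
    · have h3 := v.2.2
      rw [hσ] at h3
      rw [hK, LinearMap.mem_ker, LinearMap.sub_apply, Module.End.one_apply, sub_eq_zero]
      exact h3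
    · have h3 : (H - 1) ((v : K) : V) = 0 := LinearMap.mem_ker.1 (v : K).2
      rw [LinearMap.sub_apply, Module.End.one_apply, sub_eq_zero] at h3
      rw [hσ]
      exact h3
  choose k hk using hkey
  obtain ⟨ψ, hψ⟩ := exists_addChar F
  have h3 := hs ψ hψ
  have h4 := hs₀ ψ hψ
  rw [gs_fiber] at h3 h4
  have h5 : (((ε * (Nat.card F : ℤ) ^ n - ε₀ * (Nat.card F : ℤ) ^ (n - m) : ℤ)) : ℂ) =
      (((p : ℤ) ^ 2 : ℤ) : ℂ) * ∑ c : F, (k c : ℂ) * ψ c := by
    push_cast
    rw [← h3, ← h4, ← Finset.sum_sub_distrib, Finset.mul_sum]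
    refine Finset.sum_congr rfl fun c _ => ?_
    rw [hk c]
    push_cast
    ring
  have h6 : (p : ℤ) ^ 2 ∣ ε * (Nat.card F : ℤ) ^ n - ε₀ * (Nat.card F : ℤ) ^ (n - m) := by
    refine int_dvd_of_isIntegral (IsIntegral.sum _ fun c _ => ?_) h5
    exact (isIntegral_algebraMap (R := ℤ) (A := ℂ) (x := (k c : ℤ))).mul (isIntegral_char ψ c) |> fun h => by simpa using h
  refine ⟨m, ε * ε₀, hm1, by omega, ?_, ?_, ?_⟩
  · rcases hε with rfl | rfl <;> rcases hε₀ with rfl | rfl <;> simp
  · intro hmn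
    rw [hε₀' (by omega), mul_one]
  · have h7 : ε * (Nat.card F : ℤ) ^ n - ε₀ * (Nat.card F : ℤ) ^ (n - m) =
        (Nat.card F : ℤ) ^ (n - m) * (ε * (Nat.card F : ℤ) ^ m - ε₀) := by
      rw [mul_sub, mul_comm ((Nat.card F : ℤ) ^ (n - m)) ε₀, mul_left_comm, ← pow_add, show n - m + m = n by omega]
    rw [h7] at h6
    have h8 : IsCoprime ((p : ℤ) ^ 2) ((Nat.card F : ℤ) ^ (n - m)) := by
      apply IsCoprime.pow
      exact Nat.isCoprime_iff_coprime.2 ((Nat.Prime.coprime_iff_not_dvd hp).2 hpF)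
    have h9 := h8.dvd_of_dvd_mul_left h6
    have h10 : (Nat.card F : ℤ) ^ m - ε * ε₀ = ε * (ε * (Nat.card F : ℤ) ^ m - ε₀) := by
      rcases hε with rfl | rfl
      · ring
      · ring
    rw [h10]
    exact h9.mul_left ε

end main

end Cfsg.Agent.H157.Six.Reg
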