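import Cfsg.Agent.H157.Six.Lift
import Cfsg.Agent.H157.Six.E5Tool

/-!
# BLOCK 6, row M5f: `PΩ^±_{2n}(v)`, `n ≥ 4`, `q = 5 ^ m` (helper157)
-/

set_option autoImplicit false
set_option linter.style.haveILetI false
set_option linter.unusedSectionVars false

namespace Cfsg.Agent.H157.Six.Orth

open QuadraticMap Cfsg
open Cfsg.Agent.LieClassical.OrthCore Cfsg.Agent.LieClassical.OrthForms
open Cfsg.Agent.H377 Cfsg.Agent.H403.Classify Cfsg.Agent.H72.AdjOrth Cfsg.Agent.H424.OrthElt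
open Cfsg.Agent.H424.P4 (OQ ts ts_one ts_neg ts_mul ts_dvd ts_le ts_pos elt_ts T2 neg_pm)
open Cfsg.Agent.H376.Six Cfsg.Agent.H157.Six.E5Tool Cfsg.Agent.H157.Six.Act

/-- what we use of `PΩ^ε_{2n}(v)` -/
structure OX (S : Type*) [Group S] (F : Type*) [Field F] [Finite F] (n : ℕ) (ε : ℤ) : Prop extends OQ S F n ε where
  act1 : ∀ r t : ℕ, r.Prime → r ≠ 2 → t.Prime → CharP F t → r ≠ t → Elt F (n - 1) ε r → Acts r t S
  act2 : ∀ k j r t : ℕ, k + j = n → 3 ≤ k → r.Prime → r ≠ 2 → t.Prime → CharP F t → r ≠ t →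
    r ∣ Nat.card F ^ k - 1 → Elt F j ε 1 → Acts r t S
  sq : ∀ p : ℕ, p.Prime → p ≠ 2 → ¬ p ∣ Nat.card F → (∃ x : S, orderOf x = p ^ 2) →
    ∃ m, ∃ δ : ℤ, 1 ≤ m ∧ m ≤ n ∧ (δ = 1 ∨ δ = -1) ∧ (m = n → δ = ε) ∧ (p : ℤ) ^ 2 ∣ (Nat.card F : ℤ) ^ m - δ
  unip : ∀ t a : ℕ, t.Prime → t ≠ 2 → CharP F t → (∃ x : S, orderOf x = t ^ (a + 1)) → t ^ a < 2 * n
  out : 5 ∣ Nat.card (Cfsg.Out S) → ∃ w, Nat.card F = w ^ 5
  fin : Finite S

section

variable {q : ℕ} {S : Type*} [Group S] {F : Type*} [Field F] [Finite F] {n : ℕ} {ε : ℤ}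

theorem ts_int {v m : ℕ} (hv : 1 ≤ v) {δ : ℤ} (hδ : δ = 1 ∨ δ = -1) : (ts v m δ : ℤ) = (v : ℤ) ^ m - δ := by
  rcases hδ with rfl | rfl
  · rw [ts_one, Nat.cast_sub (Nat.one_le_pow _ _ hv)]
    push_cast
    ring
  · rw [ts_neg]
    push_cast
    ring

/-- `25 ∣ v ^ 4 - 1` -/
theorem OX.not_four (O : OX S F n ε) (hn : 4 ≤ n) (hub : ∀ x : S, Ub5 q (orderOf x)) (h5 : 5 ∣ q) (hq : 2 ≤ q)
    (hq4 : q % 4 = 1) (h : 25 ∣ Nat.card F ^ 4 - 1) : False := by
  have hv : 1 ≤ Nat.card F := Nat.card_pos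
  obtain ⟨δ, hδ, hd⟩ : ∃ δ : ℤ, (δ = 1 ∨ δ = -1) ∧ 25 ∣ ts (Nat.card F) 2 δ := by
    have h1 := ts_mul (Nat.card F) 2 (ε := 1) (Or.inl rfl)
    rw [show 2 * 2 = 4 from rfl] at h1
    rw [← h1] at h
    by_cases h2 : 5 ∣ ts (Nat.card F) 2 1
    · have h3 : ¬ 5 ∣ ts (Nat.card F) 2 (-1) := by
        rw [ts_one] at h2
        rw [ts_neg]
        have := Nat.one_le_pow 2 (Nat.card F) hv
        omega
      refine ⟨1, Or.inl rfl, ?_⟩
      have h4 : Nat.Coprime (5 ^ 2) (ts (Nat.card F) 2 (-1)) :=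
        Nat.Coprime.pow_left 2 ((Nat.Prime.coprime_iff_not_dvd (by norm_num)).2 h3)
      exact Nat.Coprime.dvd_of_dvd_mul_right h4 h
    · refine ⟨-1, Or.inr rfl, ?_⟩
      have h4 : Nat.Coprime (5 ^ 2) (ts (Nat.card F) 2 1) :=
        Nat.Coprime.pow_left 2 ((Nat.Prime.coprime_iff_not_dvd (by norm_num)).2 h2)
      exact Nat.Coprime.dvd_of_dvd_mul_left h4 h
  have h1 : Elt F 2 δ 25 := elt_ts (by norm_num) hδ hd
  have h2 : Elt F (n - 2) (δ * ε) 3 := elt_three (by omega) (mul_pm hδ O.pm)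
  have h3 := h1.prod h2
  rw [← mul_assoc, sq_pm hδ, one_mul, show 2 + (n - 2) = n by omega] at h3
  obtain ⟨g, hg⟩ := O.elt _ (h3.two (by omega) (by decide))
  have h4 := (hub g).of_25 h5 hq hq4 (by rw [hg]; decide)
  rw [hg] at h4
  exact absurd (Nat.le_of_dvd (by norm_num) h4) (by decide)

/-- no element of order `25` -/
theorem OX.no25 (O : OX S F n ε) (hn : 4 ≤ n) (hv5 : ¬ 5 ∣ Nat.card F) (hub : ∀ x : S, Ub5 q (orderOf x)) (h5 : 5 ∣ q)
    (hq : 2 ≤ q) (hq4 : q % 4 = 1) (h : ∃ x : S, orderOf x = 25) : False := by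
  have := O.fin
  have hv : 1 ≤ Nat.card F := Nat.card_pos
  have hv2 : 2 ≤ Nat.card F := Finite.one_lt_card
  obtain ⟨m, δ, hm1, hmn, hδ, hδε, hd⟩ := O.sq 5 (by norm_num) (by norm_num) hv5 h
  have hd' : 25 ∣ ts (Nat.card F) m δ := by
    have h1 : ((25 : ℕ) : ℤ) ∣ ((ts (Nat.card F) m δ : ℕ) : ℤ) := by
      rw [ts_int hv hδ]
      exact_mod_cast hd
    exact_mod_cast h1
  -- `5 ∣ m`
  have h5m : 5 ∣ m := by
    by_contra hm5
    apply O.not_four hn hub h5 hq hq4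
    have hcop : Nat.Coprime (Nat.card F) 25 := by
      have : Nat.Coprime (Nat.card F) (5 ^ 2) := Nat.Coprime.pow_right 2
        ((Nat.Prime.coprime_iff_not_dvd (by norm_num)).2 hv5).symm
      exact this
    let x := ZMod.unitOfCoprime (Nat.card F) hcop
    have hx1 : x ^ 20 = 1 := by
      have h1 := ZMod.pow_totient x
      have h2 : Nat.totient 25 = 20 := by decide
      rwa [h2] at h1
    have key : ∀ k : ℕ, x ^ k = 1 ↔ 25 ∣ Nat.card F ^ k - 1 := by
      intro k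
      rw [← Nat.modEq_iff_dvd' (Nat.one_le_pow _ _ hv), Nat.ModEq.comm, ← ZMod.natCast_eq_natCast_iff]
      rw [Units.ext_iff]
      push_cast
      rfl
    have hx2 : x ^ (2 * m) = 1 := (key _).2 (hd'.trans (ts_dvd hδ))
    have h1 : orderOf x ∣ 4 := by
      have h2 := Nat.dvd_gcd (orderOf_dvd_of_pow_eq_one hx1) (orderOf_dvd_of_pow_eq_one hx2)
      refine h2.trans ?_
      have h3 : Nat.Coprime (Nat.gcd 20 (2 * m)) 5 := by
        rw [Nat.coprime_comm, Nat.Prime.coprime_iff_not_dvd (by norm_num)]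
        intro h4
        have h5' := h4.trans (Nat.gcd_dvd_right 20 (2 * m))
        omega
      have h4 : Nat.gcd 20 (2 * m) ∣ 4 * 5 := Nat.gcd_dvd_left 20 (2 * m)
      exact h3.dvd_of_dvd_mul_right h4
    exact (key 4).1 (orderOf_dvd_iff_pow_eq_one.1 h1)
  -- an element of order divisible by `ts / 4`
  obtain ⟨g, hg⟩ : ∃ g : S, ts (Nat.card F) m δ ∣ 4 * orderOf g := by
    rcases hmn.lt_or_eq with h1 | h1
    · obtain ⟨g, hg⟩ := O.T2 hm1 h1 hδ
      exact ⟨g, hg.trans ⟨2, by ring⟩⟩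
    · rw [h1, hδε h1]
      exact O.four (elt_ts (by omega) O.pm dvd_rfl)
  have h25 : 25 ∣ orderOf g := by
    have h1 := hd'.trans hg
    exact Nat.Coprime.dvd_of_dvd_mul_left (by decide : Nat.Coprime 25 4) h1
  have h26 := (hub g).of_25 h5 hq hq4 h25
  have h27 : ts (Nat.card F) m δ ∣ 100 := hg.trans (Nat.mul_dvd_mul_left 4 h26)
  have h28 := Nat.le_of_dvd (by norm_num) h27
  obtain ⟨k, rfl⟩ := h5m
  have hk : k = 1 := by
    by_contra hk
    have h1 : 2 ^ 10 ≤ Nat.card F ^ (5 * k) :=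
      (Nat.pow_le_pow_left hv2 10).trans (Nat.pow_le_pow_right hv (by omega))
    rcases hδ with rfl | rfl
    · rw [ts_one] at h28; omega
    · rw [ts_neg] at h28; omega
  subst hk
  have hv3 : Nat.card F = 2 := by
    by_contra hne
    have h1 : 3 ^ 5 ≤ Nat.card F ^ (5 * 1) := Nat.pow_le_pow_left (by omega) 5
    rcases hδ with rfl | rfl
    · rw [ts_one] at h28; omega
    · rw [ts_neg] at h28; omega
  rw [hv3] at hd'
  rcases hδ with rfl | rfl
  · rw [ts_one] at hd'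
    revert hd'
    decide
  · rw [ts_neg] at hd'
    revert hd'
    decide

/-- `5 ∣ |Out S|` -/
theorem OX.no_out (O : OX S F n ε) (hn : 4 ≤ n) (hv5 : ¬ 5 ∣ Nat.card F) (hub : ∀ x : S, Ub5 q (orderOf x)) (h5 : 5 ∣ q)
    (hq : 2 ≤ q) (hq4 : q % 4 = 1) (h : 5 ∣ Nat.card (Cfsg.Out S)) : False := by
  obtain ⟨w, hw⟩ := O.out h
  apply O.not_four hn hub h5 hq hq4
  have hw5 : ¬ 5 ∣ w := fun hd => hv5 (by rw [hw]; exact hd.trans (dvd_pow_self w (by norm_num)))
  have hcop : Nat.Coprime w 25 := by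
    have : Nat.Coprime w (5 ^ 2) := Nat.Coprime.pow_right 2
      ((Nat.Prime.coprime_iff_not_dvd (by norm_num)).2 hw5).symm
    exact this
  rw [hw, ← pow_mul]
  have h1 := Nat.ModEq.pow_totient hcop
  have h2 : Nat.totient 25 = 20 := by decide
  rw [h2] at h1
  exact (Nat.modEq_iff_dvd' (Nat.one_le_pow _ _ (Nat.pos_of_ne_zero (by rintro rfl; simp at hw5)))).1 h1.symm

/-- the exceptional torus -/
def top (v n : ℕ) (ε : ℤ) : ℕ := if ε = 1 then ts v (n - 1) (-1) else ts v n (-1)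

/-- elements of odd order dividing `top` -/
theorem OX.elt_top (O : OX S F n ε) (hn : 4 ≤ n) {N : ℕ} (hN : Odd N) (h : N ∣ top (Nat.card F) n ε) :
    ∃ g : S, orderOf g = N := by
  unfold top at h
  rcases O.pm with h1 | h1
  · rw [if_pos h1] at h
    have h2 : Elt F (n - 1) (-1) N := elt_ts (by omega) (Or.inr rfl) h
    exact O.elt _ ((elt_extend h2 (Or.inr rfl) O.pm (by omega)).two (by omega) hN)
  · rw [if_neg (by rw [h1]; decide)] at h
    have h2 : Elt F n (-1) N := elt_ts (by omega) (Or.inr rfl) h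
    rw [← h1] at h2
    exact O.elt _ (h2.two (by omega) hN)

/-- the class of a prime `r ∣ ap q * am q` different from the characteristic -/
theorem OX.cls (O : OX S F n ε) (hn : 4 ≤ n) (hN : NoFrob 5 q S) (hv5 : ¬ 5 ∣ Nat.card F) (hq : 2 ≤ q) {r : ℕ}
    (hr : r.Prime) (hra : r ∣ ap q * am q) (hrv : ¬ r ∣ Nat.card F) (hrS : r ∣ Nat.card S) :
    r ∣ top (Nat.card F) n ε := by
  have hv : 1 ≤ Nat.card F := Nat.card_pos
  have hr2 : r ≠ 2 := by
    rcases hr.dvd_mul.1 hra with h | h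
    · exact (ap_ne hq hr h).1
    · exact (am_ne hq hr h).1
  obtain ⟨t, ht⟩ := CharP.exists F
  have htp : t.Prime := CharP.char_is_prime F t
  have htv : t ∣ Nat.card F := by
    have : Fact t.Prime := ⟨htp⟩
    letI := Fintype.ofFinite F
    obtain ⟨k, -, hk⟩ := FiniteField.card F t
    rw [Nat.card_eq_fintype_card, hk]
    exact dvd_pow_self t k.ne_zero
  have hrt : r ≠ t := by
    rintro rfl
    exact hrv htv
  have ht5 : t ≠ 5 := by
    rintro rfl
    exact hv5 htv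
  have hact : ¬ Acts r t S := fun h => h.false hN hr hra htp ht5 (Ne.symm hrt)
  have hA1 : ¬ Elt F (n - 1) ε r := fun h => hact (O.act1 r t hr hr2 htp ht hrt h)
  have hsmall : ∀ i, 1 ≤ i → i ≤ n - 2 → ¬ r ∣ Nat.card F ^ (2 * i) - 1 := by
    intro i hi1 hi2 hd
    rw [← ts_mul (Nat.card F) i (ε := 1) (Or.inl rfl)] at hd
    obtain ⟨δ, hδ, hd'⟩ : ∃ δ : ℤ, (δ = 1 ∨ δ = -1) ∧ r ∣ ts (Nat.card F) i δ := by
      rcases hr.dvd_mul.1 hd with h | h
      · exact ⟨1, Or.inl rfl, h⟩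
      · exact ⟨-1, Or.inr rfl, h⟩
    exact hA1 (elt_extend (elt_ts hi1 hδ hd') hδ O.pm (by omega))
  have h1 := hrS.trans O.card
  rw [hr.dvd_mul, hr.dvd_mul, Prime.dvd_finsetProd_iff hr.prime] at h1
  have hmain : r ∣ ts (Nat.card F) n ε ∨ r ∣ ts (Nat.card F) (n - 1) (-ε) := by
    rcases h1 with (h1 | h1) | ⟨i, hi, h1⟩
    · exact absurd (hr.dvd_of_dvd_pow h1) hrv
    · exact Or.inl h1
    · have hi' := Finset.mem_range.1 hi
      by_cases hi2 : i + 1 ≤ n - 2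
      · exact absurd h1 (hsmall (i + 1) (by omega) hi2)
      · have hi3 : i + 1 = n - 1 := by omega
        rw [hi3, ← ts_mul (Nat.card F) (n - 1) O.pm] at h1
        rcases hr.dvd_mul.1 h1 with h | h
        · exact absurd (elt_ts (by omega) O.pm h) hA1
        · exact Or.inr h
  unfold top
  rcases O.pm with h2 | h2
  · rw [if_pos h2]
    rw [h2] at hmain
    rcases hmain with h | h
    · exfalso
      rw [ts_one] at h
      exact hact (O.act2 n 0 r t (by omega) (by omega) hr hr2 htp ht hrt h (by rw [h2]; exact elt_one 0))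
    · exact h
  · rw [if_neg (by rw [h2]; decide)]
    rw [h2] at hmain
    rcases hmain with h | h
    · exact h
    · exfalso
      rw [neg_neg, ts_one] at h
      exact hact (O.act2 (n - 1) 1 r t (by omega) (by omega) hr hr2 htp ht hrt h (by
        rw [h2]; exact elt_one_minus le_rfl))

theorem num_end {n v q : ℕ} (hn : 4 ≤ n) (hv : 7 ≤ v) (h1 : v ^ (n - 2) - 1 ≤ 3 * (q - 1)) (hq : 2 ≤ q)
    (h2 : q ^ 2 < 3 * ((2 * n - 1) * v)) : False := by
  obtain ⟨k, rfl⟩ : ∃ k, n = k + 4 := ⟨n - 4, by omega⟩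
  have h3 : v ^ (k + 2) < 3 * q := by
    have : k + 4 - 2 = k + 2 := by omega
    rw [this] at h1
    omega
  have h4 : (v ^ (k + 2)) ^ 2 < (3 * q) ^ 2 := Nat.pow_lt_pow_left h3 (by norm_num)
  have h5 : (3 * q) ^ 2 = 9 * q ^ 2 := by ring
  have h6 : (v ^ (k + 2)) ^ 2 = v ^ (2 * k) * v ^ 3 * v := by ring
  have h7 : 2 * (k + 4) - 1 = 2 * k + 7 := by omega
  rw [h7] at h2
  have h8 : v ^ (2 * k) * v ^ 3 * v < 27 * (2 * k + 7) * v := by
    calc v ^ (2 * k) * v ^ 3 * v = (v ^ (k + 2)) ^ 2 := h6.symm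
      _ < 9 * q ^ 2 := by rw [← h5]; exact h4
      _ < 9 * (3 * ((2 * k + 7) * v)) := by omega
      _ = 27 * (2 * k + 7) * v := by ring
  have h9 : v ^ (2 * k) * v ^ 3 < 27 * (2 * k + 7) := Nat.lt_of_mul_lt_mul_right h8
  have h10 : 343 ≤ v ^ 3 := by
    calc 343 = 7 ^ 3 := by norm_num
      _ ≤ v ^ 3 := Nat.pow_le_pow_left hv 3
  have h11 : k + 1 ≤ v ^ (2 * k) := by
    have h12 : k < 2 ^ k := Nat.lt_two_pow_self
    calc k + 1 ≤ 2 ^ k := h12
      _ ≤ v ^ k := Nat.pow_le_pow_left (by omega) k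
      _ ≤ v ^ (2 * k) := Nat.pow_le_pow_right (by omega) (by omega)
  have h12 : (k + 1) * 343 ≤ v ^ (2 * k) * v ^ 3 := Nat.mul_le_mul h11 h10
  omega

/-- **the row** -/
theorem OX.kill (O : OX S F n ε) (hn : 4 ≤ n) (hv5 : ¬ 5 ∣ Nat.card F) (h : E5 q S) : False := by
  have hfin := O.fin
  obtain ⟨m, hm, hqm⟩ := h.pow
  obtain ⟨h5, hq, hq4⟩ := five_dvd hm hqm
  have hub : ∀ x : S, Ub5 q (orderOf x) := h.ub
  have hv : 1 ≤ Nat.card F := Nat.card_pos
  have hv2 : 2 ≤ Nat.card F := Finite.one_lt_card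
  rcases h.five with ⟨⟨x, hx⟩, ⟨y, hy⟩, hN⟩ | h25
  swap
  · exact O.no25 hn hv5 hub h5 hq hq4 h25
  rcases hN with hN | hN
  swap
  · exact O.no_out hn hv5 hub h5 hq hq4 hN
  obtain ⟨u, hu⟩ := CharP.exists F
  have hup : u.Prime := CharP.char_is_prime F u
  have huv : u ∣ Nat.card F := by
    have : Fact u.Prime := ⟨hup⟩
    letI := Fintype.ofFinite F
    obtain ⟨k, -, hk⟩ := FiniteField.card F u
    rw [Nat.card_eq_fintype_card, hk]
    exact dvd_pow_self u k.ne_zero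
  have huniq : ∀ r : ℕ, r.Prime → r ∣ Nat.card F → r = u := by
    intro r hr hrv
    have : Fact u.Prime := ⟨hup⟩
    letI := Fintype.ofFinite F
    obtain ⟨k, -, hk⟩ := FiniteField.card F u
    rw [Nat.card_eq_fintype_card, hk] at hrv
    exact (Nat.prime_dvd_prime_iff_eq hr hup).1 (hr.dvd_of_dvd_pow hrv)
  have hapS : ap q ∣ Nat.card S := hx ▸ orderOf_dvd_natCard x
  have hamS : am q ∣ Nat.card S := hy ▸ orderOf_dvd_natCard y
  -- the characteristic does not divide `am q`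
  have huam : ¬ u ∣ am q := by
    intro hd
    have hu2 := (am_ne hq hup hd).1
    have h1 : Elt F 2 1 u := elt_char hup le_rfl
    obtain ⟨g, hg⟩ := O.elt _ (elt2_two (hup.odd_of_ne_two hu2) h1 (by norm_num) (Or.inl rfl) O.pm (by omega))
    exact (hub g).odd_am h5 hq hq4 hup hd (by rw [hg]; exact dvd_mul_left _ _) (by rw [hg]; exact dvd_mul_right _ _)
  have hap1 : 1 < ap q := by
    have := three_ap hq
    nlinarith
  have ham1 : 1 < am q := by
    have h1 := three_am hq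
    have h2 : q ^ 2 = q * q := pow_two q
    have h3 : 5 ≤ q := Nat.le_of_dvd (by omega) h5
    have h4 : 5 * q ≤ q * q := Nat.mul_le_mul_right q h3
    omega
  obtain ⟨s, hs, hsam⟩ := Nat.exists_prime_and_dvd ham1.ne'
  have hsu : ¬ s ∣ Nat.card F := fun hd => huam ((huniq s hs hd) ▸ hsam)
  have hsX := O.cls hn hN hv5 hq hs (hsam.mul_left _) hsu (hsam.trans hamS)
  -- every prime divisor of `ap q` is the characteristic
  have hapu : ∀ r : ℕ, r.Prime → r ∣ ap q → r = u := by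
    intro r hr hra
    by_contra hru
    have hrv : ¬ r ∣ Nat.card F := fun hd => hru (huniq r hr hd)
    have hrX := O.cls hn hN hv5 hq hr (hra.mul_right _) hrv (hra.trans hapS)
    have hrs : r ≠ s := by
      rintro rfl
      exact (hub 1).not_both h5 hq hq4 hr hs hra hsam (by
        exfalso
        have h1 := (ap_dvd_half hq (by omega) |> hra.trans)
        have h2 := (am_dvd_half hq (by omega) |> hsam.trans)
        have h3 := Nat.dvd_gcd h1 h2
        rw [coprime_half (by omega)] at h3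
        exact hr.one_lt.ne' (Nat.dvd_one.1 h3)) (by
        exfalso
        have h1 := (ap_dvd_half hq (by omega) |> hra.trans)
        have h2 := (am_dvd_half hq (by omega) |> hsam.trans)
        have h3 := Nat.dvd_gcd h1 h2
        rw [coprime_half (by omega)] at h3
        exact hr.one_lt.ne' (Nat.dvd_one.1 h3))
    have hodd : Odd (r * s) := (hr.odd_of_ne_two (ap_ne hq hr hra).1).mul (hs.odd_of_ne_two (am_ne hq hs hsam).1)
    obtain ⟨g, hg⟩ := O.elt_top hn hodd (((Nat.coprime_primes hr hs).2 hrs).mul_dvd_of_dvd_of_dvd hrX hsX)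
    exact (hub g).not_both h5 hq hq4 hr hs hra hsam (by rw [hg]; exact dvd_mul_right _ _)
      (by rw [hg]; exact dvd_mul_left _ _)
  -- `ap q` is a power of `u`
  obtain ⟨r, hr, hra⟩ := Nat.exists_prime_and_dvd hap1.ne'
  have hru := hapu r hr hra
  subst hru
  have hr2 := (ap_ne hq hr hra).1
  obtain ⟨a, ha⟩ : ∃ a, ap q = r ^ (a + 1) := by
    have h1 := Nat.eq_prime_pow_of_unique_prime_dvd (n := ap q) (p := r) (by omega) (fun {d} hd hda => hapu d hd hda)
    refine ⟨(ap q).primeFactorsList.length - 1, ?_⟩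
    have h2 : (ap q).primeFactorsList.length ≠ 0 := by
      intro h0
      rw [h0, pow_zero] at h1
      omega
    rw [show (ap q).primeFactorsList.length - 1 + 1 = (ap q).primeFactorsList.length by omega]
    exact h1
  have hbd := O.unip r a hr hr2 hu ⟨x, by rw [hx, ha]⟩
  -- an element of order divisible by `r (v ^ (n - 2) - 1) / 2`
  have hE1 : Elt F 2 ε r := by
    rcases O.pm with h1 | h1
    · rw [h1]; exact elt_char hr le_rfl
    · rw [h1]; exact elt_char_minus hr hr2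
  have hE2 : Elt F (n - 2) 1 (Nat.card F ^ (n - 2) - 1) := elt_tor_plus (by omega) dvd_rfl
  have hodd : Odd (Nat.card F) := by
    by_contra he
    rw [Nat.not_odd_iff_even] at he
    exact hr2 (huniq 2 Nat.prime_two he.two_dvd).symm
  have heven : Even (Nat.card F ^ (n - 2) - 1) := by
    have : Odd (Nat.card F ^ (n - 2)) := hodd.pow
    obtain ⟨k, hk⟩ := this
    exact ⟨k, by omega⟩
  have h1 := Elt.prod_two (by norm_num) (hr.odd_of_ne_two hr2) hE1 hE2 heven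
  rw [mul_one, show 2 + (n - 2) = n by omega] at h1
  obtain ⟨g, hg⟩ := O.elt _ h1
  have h2 := (hub g).of_ap h5 hq hq4 hr hra (by rw [hg]; exact Nat.dvd_lcm_left _ _)
  rw [hg] at h2
  have h3 := (Nat.dvd_lcm_right r ((Nat.card F ^ (n - 2) - 1) / 2)).trans h2
  obtain ⟨w, hw⟩ := heven
  have hw2 : (Nat.card F ^ (n - 2) - 1) / 2 = w := by omega
  rw [hw2] at h3
  -- `2 w ∣ (q - 1) * gcd * ap`
  have h4 : 2 * w ∣ q ^ 3 - 1 := by
    have h5 : 2 ∣ q ^ 3 - 1 := by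
      rw [cube_sub]
      exact (show 2 ∣ q - 1 by omega).mul_left _
    calc 2 * w ∣ 2 * ((q ^ 3 - 1) / 2) := Nat.mul_dvd_mul_left 2 h3
      _ = q ^ 3 - 1 := Nat.mul_div_cancel' h5
  have h5' : Nat.Coprime (2 * w) (ap q) := by
    rw [ha]
    apply Nat.Coprime.pow_right
    rw [Nat.coprime_comm, Nat.Prime.coprime_iff_not_dvd hr]
    intro hd
    rw [show 2 * w = Nat.card F ^ (n - 2) - 1 by omega] at hd
    have h6 : r ∣ Nat.card F ^ (n - 2) := huv.trans (dvd_pow_self _ (by omega))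
    have h7 := Nat.one_le_pow (n - 2) (Nat.card F) hv
    have h8 := (Nat.dvd_sub h6 hd)
    rw [show Nat.card F ^ (n - 2) - (Nat.card F ^ (n - 2) - 1) = 1 by omega] at h8
    exact hr.one_lt.ne' (Nat.dvd_one.1 h8)
  have h6 : 2 * w ∣ Nat.gcd 3 (q - 1) * (q - 1) := by
    rw [cube_sub, ← (ap_spec hq).1, mul_assoc] at h4
    exact h5'.dvd_of_dvd_mul_left h4
  have h7 : 2 * w ≤ 3 * (q - 1) := by
    have h8 : 0 < Nat.gcd 3 (q - 1) * (q - 1) := Nat.mul_pos (Nat.gcd_pos_of_pos_left _ (by norm_num)) (by omega)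
    exact (Nat.le_of_dvd h8 h6).trans (Nat.mul_le_mul_right _ (Nat.gcd_le_left _ (by norm_num)))
  have hr7 : 7 ≤ r := by
    have h8 := (ap_ne hq hr hra).2.1
    have h9 : r ≠ 5 := by
      rintro rfl
      exact hv5 huv
    have h10 := hr.two_le
    by_contra hcon
    have h11 : r = 4 ∨ r = 6 := by omega
    rcases h11 with rfl | rfl
    · exact absurd hr (by norm_num)
    · exact absurd hr (by norm_num)
  have hrle : r ≤ Nat.card F := Nat.le_of_dvd hv huv
  refine num_end hn (hr7.trans hrle) (q := q) (by omega) hq ?_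
  have h8 := three_ap hq
  have h9 : ap q ≤ (2 * n - 1) * Nat.card F := by
    rw [ha, pow_succ]
    exact Nat.mul_le_mul (by omega) hrle
  omega

end

section rows

theorem five_dvd_of_aut {S : Type*} [Group S] [Finite S] [IsSimpleGroup S] (hna : ¬ IsMulCommutative S) {N f : ℕ}
    (hN : Nat.Coprime 5 N) (h : Nat.card (MulAut S) = N * f * Nat.card S) (h5 : 5 ∣ Nat.card (Cfsg.Out S)) : 5 ∣ f := by
  rw [Cfsg.Agent.H934.OutB.card_out_of_aut hna h] at h5
  exact hN.dvd_of_dvd_mul_left h5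

theorem exists_root {v p f : ℕ} (hv : v = p ^ f) (h5 : 5 ∣ f) : ∃ w, v = w ^ 5 := by
  obtain ⟨k, rfl⟩ := h5
  exact ⟨p ^ k, by rw [hv, ← pow_mul, mul_comm]⟩

theorem not_comm {S : Type*} [Group S] [Finite S] [IsSimpleGroup S] (h : ∃ g : S, orderOf g = 6) :
    ¬ IsMulCommutative S := by
  intro hc
  let : CommGroup S := { mul_comm := hc.is_comm.comm }
  have hp : (Nat.card S).Prime := IsSimpleGroup.prime_card
  obtain ⟨g, hg⟩ := h
  have h6 : 6 ∣ Nat.card S := hg ▸ orderOf_dvd_natCard g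
  have h4 := (Nat.prime_dvd_prime_iff_eq Nat.prime_two hp).1 ((by norm_num : 2 ∣ 6).trans h6)
  have h5 := (Nat.prime_dvd_prime_iff_eq Nat.prime_three hp).1 ((by norm_num : 3 ∣ 6).trans h6)
  omega

variable {F : Type*} [Field F] [Finite F]

theorem sq_of {ι : Type} [Fintype ι] [DecidableEq ι] {Q : QuadraticForm F (ι → F)} (hQ : Nondeg Q)
    (h5 : 5 ≤ Fintype.card ι) {f : (ι → F) → F} (hf : ⇑Q = f) {n : ℕ} (hn : Module.finrank F (ι → F) = 2 * n) {ε : ℤ}
    (hε : ε = 1 ∨ ε = -1) (hs : HasSign (⇑Q) n ε) : ∀ p : ℕ, p.Prime → p ≠ 2 → ¬ p ∣ Nat.card F →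
    (∃ x : POmega F f, orderOf x = p ^ 2) →
    ∃ m, ∃ δ : ℤ, 1 ≤ m ∧ m ≤ n ∧ (δ = 1 ∨ δ = -1) ∧ (m = n → δ = ε) ∧ (p : ℤ) ^ 2 ∣ (Nat.card F : ℤ) ^ m - δ := by
  subst hf
  rintro p hp hp2 hpF ⟨x, hx⟩
  obtain ⟨G, hG, hGo⟩ := Lift.exists_lift Q hQ h5 ((hp.odd_of_ne_two hp2).pow) hx
  refine Reg.reg hn hQ hε hs hG hp hp2 hpF ?_ ?_
  · rw [← hGo, pow_orderOf_eq_one]
  · intro h
    have h1 := orderOf_dvd_of_pow_eq_one h
    rw [hGo] at h1
    have h2 := Nat.le_of_dvd hp.pos h1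
    have h3 := hp.one_lt
    nlinarith

theorem unip_of {ι : Type} [Fintype ι] [DecidableEq ι] {Q : QuadraticForm F (ι → F)} (hQ : Nondeg Q)
    (h5 : 5 ≤ Fintype.card ι) {f : (ι → F) → F} (hf : ⇑Q = f) {n : ℕ} (hn : Module.finrank F (ι → F) = 2 * n) :
    ∀ t a : ℕ, t.Prime → t ≠ 2 → CharP F t → (∃ x : POmega F f, orderOf x = t ^ (a + 1)) → t ^ a < 2 * n := by
  subst hf
  rintro t a ht ht2 hc ⟨x, hx⟩
  obtain ⟨G, hG, hGo⟩ := Lift.exists_lift Q hQ h5 ((ht.odd_of_ne_two ht2).pow) hx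
  rw [← hn]
  exact Lift.unip ht hGo

theorem exists_six {S : Type*} [Group S] {n : ℕ} {ε : ℤ} (O : OQ S F n ε) (hn : 4 ≤ n) : ∃ g : S, orderOf g = 6 :=
  O.elt _ (elt2_two (s := 3) (by decide) (elt_three (n := 2) le_rfl O.pm) (by norm_num) O.pm O.pm (by omega))

theorem exists_pf (F : Type*) [Field F] [Fintype F] : ∃ p f : ℕ, p.Prime ∧ 1 ≤ f ∧ Fintype.card F = p ^ f := by
  obtain ⟨p, hp⟩ := CharP.exists F
  obtain ⟨f, hf1, hf2⟩ := FiniteField.card F p
  exact ⟨p, f, hf1, f.pos, hf2⟩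

theorem ox_plus {n : ℕ} (hn : 4 ≤ n) : OX (POmega F (quadFormPlus n F)) F n 1 := by
  letI := Fintype.ofFinite F
  have hO := Cfsg.Agent.H424.P4.oq_plus (F := F) hn
  have hcard : 5 ≤ Fintype.card (Fin n ⊕ Fin n) := by
    rw [Fintype.card_sum, Fintype.card_fin]; omega
  have hfr : Module.finrank F (Fin n ⊕ Fin n → F) = 2 * n := finrank_sumFun n
  have hfin : Finite (POmega F (quadFormPlus n F)) := hO.finite hn
  refine { toOQ := hO, act1 := ?_, act2 := ?_, sq := ?_, unip := ?_, out := ?_, fin := hfin }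
  · intro r t hr hr2 ht hc hrt h
    obtain ⟨Q, h1, h2, h3⟩ := preAct_of_elt (by omega : 1 ≤ n) hr ht hrt h
    refine acts_plus hn ?_ h1 h2 hr hr2 ht hrt h3
    rw [Module.finrank_prod, Module.finrank_prod, Module.finrank_self, Module.finrank_fin_fun]
    omega
  · intro k j r t hkj hk hr hr2 ht hc hrt hd h
    obtain ⟨V, _, _, _, Q, h0, h1, h2, h3⟩ := preAct_of_dvd hk hr hr2 ht hd h
    rw [hkj] at h0 h2
    exact acts_plus hn h0 h1 h2 hr hr2 ht hrt h3
  · exact sq_of (nondeg_plusForm n F) hcard (coe_plusForm n F) hfr (Or.inl rfl) (hasSign_plusForm n)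
  · exact unip_of (nondeg_plusForm n F) hcard (coe_plusForm n F) hfr
  · intro h5
    obtain ⟨p, f, hp, hf, hF⟩ := exists_pf F
    have := Fact.mk hp
    have hs : IsSimpleGroup (POmega F (quadFormPlus n F)) := by
      rw [← coe_plusForm]
      exact Cfsg.Agent.LieClassical.OrthFinite.isSimpleGroup_POmega (nondeg_plusForm n F) hcard
    have h1 := Cfsg.Agent.S0817.result (F := F) p f hf hF n hn
    refine exists_root (Nat.card_eq_fintype_card.trans hF) (five_dvd_of_aut (not_comm (exists_six hO hn)) ?_ h1 h5)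
    split_ifs <;> decide

theorem ox_minus {n : ℕ} (hn : 4 ≤ n) {a b : F}
    (hab : ∀ z₁ z₂ : F, z₁ ^ 2 + a * z₁ * z₂ + b * z₂ ^ 2 = 0 → z₁ = 0 ∧ z₂ = 0) :
    OX (POmega F (quadFormMinus (n - 1) F a b)) F n (-1) := by
  letI := Fintype.ofFinite F
  have hO := Cfsg.Agent.H424.P4.oq_minus (F := F) hn hab
  have hcard : 5 ≤ Fintype.card ((Fin (n - 1) ⊕ Fin (n - 1)) ⊕ Fin 2) := by
    simp only [Fintype.card_sum, Fintype.card_fin]; omega
  have hfr : Module.finrank F ((Fin (n - 1) ⊕ Fin (n - 1)) ⊕ Fin 2 → F) = 2 * n := by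
    rw [Module.finrank_fintype_fun_eq_card]
    simp only [Fintype.card_sum, Fintype.card_fin]; omega
  have hsg : HasSign (⇑(minusForm (n - 1) F a b)) n (-1) := by
    have h := hasSign_minusForm (F := F) (n - 1) hab
    rwa [show n - 1 + 1 = n by omega] at h
  have hfin : Finite (POmega F (quadFormMinus (n - 1) F a b)) := hO.finite hn
  refine { toOQ := hO, act1 := ?_, act2 := ?_, sq := ?_, unip := ?_, out := ?_, fin := hfin }
  · intro r t hr hr2 ht hc hrt h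
    obtain ⟨Q, h1, h2, h3⟩ := preAct_of_elt (by omega : 1 ≤ n) hr ht hrt h
    refine acts_minus hn ?_ h1 h2 hab hr hr2 ht hrt h3
    rw [Module.finrank_prod, Module.finrank_prod, Module.finrank_self, Module.finrank_fin_fun]
    omega
  · intro k j r t hkj hk hr hr2 ht hc hrt hd h
    obtain ⟨V, _, _, _, Q, h0, h1, h2, h3⟩ := preAct_of_dvd hk hr hr2 ht hd h
    rw [hkj] at h0 h2
    exact acts_minus hn h0 h1 h2 hab hr hr2 ht hrt h3
  · exact sq_of (nondeg_minusForm (n - 1) F a b hab) hcard (coe_minusForm (n - 1) F a b) hfr (Or.inr rfl) hsg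
  · exact unip_of (nondeg_minusForm (n - 1) F a b hab) hcard (coe_minusForm (n - 1) F a b) hfr
  · intro h5
    obtain ⟨p, f, hp, hf, hF⟩ := exists_pf F
    have := Fact.mk hp
    have hs : IsSimpleGroup (POmega F (quadFormMinus (n - 1) F a b)) := by
      rw [← coe_minusForm]
      exact Cfsg.Agent.LieClassical.OrthFinite.isSimpleGroup_POmega (nondeg_minusForm (n - 1) F a b hab) hcard
    have h1 := Cfsg.Agent.S0818.result (F := F) p f hf hF n hn a b hab
    refine exists_root (Nat.card_eq_fintype_card.trans hF) (five_dvd_of_aut (not_comm (exists_six hO hn)) ?_ h1 h5)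
    split_ifs <;> decide

end rows

end Cfsg.Agent.H157.Six.Orth

namespace Cfsg.Agent.H157.Six

open Cfsg.Agent.H376.Six

/-- **Row `PΩ⁺_{2n}(v)`, `n ≥ 4`, `q = 5 ^ m`.** -/
theorem oplus {q n : ℕ} {F : Type*} [Field F] [Fintype F] (h5 : ¬ 5 ∣ Fintype.card F) (hn : 4 ≤ n)
    (h : E5 q (Cfsg.POmega F (Cfsg.quadFormPlus n F))) : False :=
  (Orth.ox_plus (F := F) hn).kill hn (by rwa [Nat.card_eq_fintype_card]) h

/-- **Row `PΩ⁻_{2n}(v)`, `n ≥ 4`, `q = 5 ^ m`.** -/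
theorem ominus {q n : ℕ} {F : Type*} [Field F] [Fintype F] (h5 : ¬ 5 ∣ Fintype.card F) (hn : 4 ≤ n) {a b : F}
    (hab : ∀ z₁ z₂ : F, z₁ ^ 2 + a * z₁ * z₂ + b * z₂ ^ 2 = 0 → z₁ = 0 ∧ z₂ = 0)
    (h : E5 q (Cfsg.POmega F (Cfsg.quadFormMinus (n - 1) F a b))) : False :=
  (Orth.ox_minus (F := F) hn hab).kill hn (by rwa [Nat.card_eq_fintype_card]) h

end Cfsg.Agent.H157.Six
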